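import Cfsg.Agent.H17.IFSp.Ord
import Cfsg.Agent.H500.IF.SpCell
import Cfsg.Agent.H511.IF.SpF

/-!
# S5719, `PSp_2m(q)`, `q` odd, `m ≥ 3`: assembly, up to the case `x² = -1`, `-1` a non-square (helper17)
-/

set_option autoImplicit false

namespace Cfsg.Agent.H17.IFSp

open Module Cfsg Cfsg.Agent.ClassicalGeometry.SympBasic Cfsg.Agent.ClassicalGeometry.SympSiegel
  Cfsg.Agent.H209.Fxy Cfsg.Agent.H500.IFSp

/-- **Assembly.** -/
theorem cell_large (F : Type) [Field F] [Fintype F] (m : ℕ) (ho : Odd (Fintype.card F)) (h3 : 3 ≤ m)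
    (hs : IsSimpleGroup (PSp m F))
    (hfield : ¬ IsSquare (-1 : F) → ∀ {H : Subgroup (Matrix.symplecticGroup (Fin m) F)},
      (∀ y ∈ H, (∀ v : Fin m ⊕ Fin m → F, y • y • v = v) →
        (∀ v : Fin m ⊕ Fin m → F, y • v = v) ∨ ∀ v : Fin m ⊕ Fin m → F, y • v = -v) →
      ∀ {x : Matrix.symplecticGroup (Fin m) F}, (∀ v : Fin m ⊕ Fin m → F, x • x • v = -v) →
      (∀ B ≤ Subgroup.centralizer ({x} : Set (Matrix.symplecticGroup (Fin m) F)),
        H.relIndex B ^ 5 < (Subgroup.centralizer ({x} : Set (Matrix.symplecticGroup (Fin m) F))).index) → False) :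
    KillE (PSp m F) := by
  intro A Γ h hA
  have : Finite (Matrix.symplecticGroup (Fin m) F) := Subtype.finite
  have : Finite (PSp m F) := Quotient.finite _
  have h2 : (2 : F) ≠ 0 := Cfsg.Agent.H500.IFSp.two_ne ho
  have hna := Cfsg.Agent.H511.IF.noncomm (m := m) (F := F) h3
  let H : Subgroup (Matrix.symplecticGroup (Fin m) F) :=
    A.comap (QuotientGroup.mk' (Subgroup.center (Matrix.symplecticGroup (Fin m) F)))
  have hF : ∀ z ∈ H, ¬ FundM z := by
    rintro z hz ⟨a, b, hab, hzx⟩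
    have haa : sympForm m F a a = 0 := sympForm_self a
    have hbb : sympForm m F b b = 0 := sympForm_self b
    have hba : sympForm m F b a = -1 := by rw [sympForm_swap, hab]
    refine Cfsg.Agent.H511.IF.fund_eig h h3 ho hab (e := 1) (one_mul 1) ?_ ?_ ?_ hz
    · rw [hzx, haa, hab]
      module
    · rw [hzx, hbb, hba]
      module
    · intro u hua hub
      rw [hzx, hua, hub]
      module
  have hE : ∀ x ∈ H, QuotientGroup.mk' (Subgroup.center (Matrix.symplecticGroup (Fin m) F)) x ≠ 1 →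
      QuotientGroup.mk' (Subgroup.center (Matrix.symplecticGroup (Fin m) F)) (x * x) = 1 →
      ∀ B ≤ Subgroup.centralizer ({x} : Set (Matrix.symplecticGroup (Fin m) F)),
        H.relIndex B ^ 5 < (Subgroup.centralizer ({x} : Set (Matrix.symplecticGroup (Fin m) F))).index := by
    intro x hx hx1 hx2 B hB
    refine Cfsg.Agent.H847.IF.lift_E2 h hna _ (QuotientGroup.mk'_surjective _) hx hx1 hx2 ?_
    intro b hb
    rw [Subgroup.mem_centralizer_singleton_iff.1 (hB hb)]
  -- the elements of square one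
  have h0 : ∀ x ∈ H, (∀ v : Fin m ⊕ Fin m → F, x • x • v = v) →
      (∀ v : Fin m ⊕ Fin m → F, x • v = v) ∨ ∀ v : Fin m ⊕ Fin m → F, x • v = -v := by
    intro x hx hxx
    by_contra hcon
    have hxx' : x * x = 1 := by
      apply ext_smul
      intro v
      rw [mul_smul, hxx, one_smul]
    obtain ⟨k, l, hk, hl, hkl⟩ := exists_dims h2 hxx'
    refine kill_kl h2 hF hxx' hk hl hkl (hE x hx ?_ ?_ _ le_rfl)
    · intro h5
      have h6 : x ∈ Subgroup.center (Matrix.symplecticGroup (Fin m) F) := (QuotientGroup.eq_one_iff _).1 h5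
      exact hcon (of_mem_center (by omega) h6)
    · rw [hxx', map_one]
  obtain ⟨t, htA, ht⟩ := hA
  obtain ⟨x, rfl⟩ := QuotientGroup.mk'_surjective (Subgroup.center (Matrix.symplecticGroup (Fin m) F)) t
  have hx : x ∈ H := htA
  have ht1 : QuotientGroup.mk' (Subgroup.center (Matrix.symplecticGroup (Fin m) F)) x ≠ 1 := by
    intro h5
    rw [h5, orderOf_one] at ht
    omega
  have ht2 : QuotientGroup.mk' (Subgroup.center (Matrix.symplecticGroup (Fin m) F)) (x * x) = 1 := by
    rw [map_mul, ← pow_two, ← ht, pow_orderOf_eq_one]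
  have hxc : x * x ∈ Subgroup.center (Matrix.symplecticGroup (Fin m) F) := (QuotientGroup.eq_one_iff _).1 ht2
  rcases of_mem_center (by omega) hxc with h6 | h6
  · refine ht1 ((QuotientGroup.eq_one_iff _).2 (mem_center_of (h0 x hx fun v => ?_)))
    rw [← mul_smul]
    exact h6 v
  · have hxx : ∀ v : Fin m ⊕ Fin m → F, x • x • v = -v := fun v => by
      rw [← mul_smul]
      exact h6 v
    by_cases hsq : IsSquare (-1 : F)
    · obtain ⟨i, hi⟩ := hsq
      exact kill_split h3 h2 hi.symm h0 hxx (hE x hx ht1 ht2)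
    · exact hfield hsq h0 hxx (hE x hx ht1 ht2)

end Cfsg.Agent.H17.IFSp
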