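import Cfsg.Agent.H17.IFSp.Asm
import Cfsg.Agent.H353.IF.SpFieldBig

/-!
# S5719: the cell `PSp_2m(q)`, `q` odd, `m ≥ 5` (helper17)
-/

set_option autoImplicit false

namespace Cfsg.Agent.H17.IFSp

open Cfsg Cfsg.Agent.H209.Fxy

/-- **The cell `PSp_2m(q)`, `q` odd, `m ≥ 5`, of S5719.** -/
theorem oddlarge : ∀ (F : Type) [Field F] [Fintype F] (m : ℕ), Odd (Fintype.card F) → 5 ≤ m →
    IsSimpleGroup (PSp m F) → KillE (PSp m F) := by
  intro F _ _ m ho h5 hs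
  refine cell_large F m ho (by omega) hs ?_
  intro hsq H h0 x hxx hE
  exact Cfsg.Agent.H353.IF.SpField.kill_field_big (fun D _ _ h => Cfsg.Agent.S0205.result h) h5
    (Cfsg.Agent.H500.IFSp.two_ne ho) hsq h0 hxx hE

end Cfsg.Agent.H17.IFSp
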