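import Cfsg.Agent.S0801

/-!
# S5719, symplectic groups, `q` odd: two opposite transvections generate a group containing `-1` (helper17)
-/

set_option autoImplicit false

namespace Cfsg.Agent.H17.IFSp

open Matrix
open scoped MatrixGroups

variable {F : Type*} [Field F]

theorem closure_coe_top (mu : F) :
    Subfield.closure ({⟨mu, Subfield.subset_closure rfl⟩} : Set (Subfield.closure ({mu} : Set F))) = ⊤ := by
  have h := RingHom.map_field_closure (Subfield.closure ({mu} : Set F)).subtype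
    ({⟨mu, Subfield.subset_closure rfl⟩} : Set (Subfield.closure ({mu} : Set F)))
  rw [Set.image_singleton, Subfield.subtype_apply] at h
  rw [eq_top_iff]
  rintro ⟨x, hx⟩ -
  have hx' := hx
  rw [← h, Subfield.mem_map] at hx'
  obtain ⟨y, hy, hyx⟩ := hx'
  have : y = ⟨x, hx⟩ := Subtype.ext hyx
  rwa [← this]

/-- the only involution of `SL₂` -/
theorem sl2_invol (h2 : (2 : F) ≠ 0) {g : SL(2, F)} (hg : g * g = 1) (hg1 : g ≠ 1) : g = -1 := by
  have hd : g.1 0 0 * g.1 1 1 - g.1 0 1 * g.1 1 0 = 1 := by rw [← det_fin_two]; exact g.2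
  have hm : g.1 * g.1 = 1 := congrArg Subtype.val hg
  have h00 : g.1 0 0 * g.1 0 0 + g.1 0 1 * g.1 1 0 = 1 := by
    have := congrFun (congrFun hm 0) 0
    rwa [Matrix.mul_apply, Fin.sum_univ_two, one_apply_eq] at this
  have h01 : g.1 0 0 * g.1 0 1 + g.1 0 1 * g.1 1 1 = 0 := by
    have := congrFun (congrFun hm 0) 1
    rwa [Matrix.mul_apply, Fin.sum_univ_two, one_apply_ne (by decide)] at this
  have h10 : g.1 1 0 * g.1 0 0 + g.1 1 1 * g.1 1 0 = 0 := by
    have := congrFun (congrFun hm 1) 0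
    rwa [Matrix.mul_apply, Fin.sum_univ_two, one_apply_ne (by decide)] at this
  have h11 : g.1 1 0 * g.1 0 1 + g.1 1 1 * g.1 1 1 = 1 := by
    have := congrFun (congrFun hm 1) 1
    rwa [Matrix.mul_apply, Fin.sum_univ_two, one_apply_eq] at this
  have ht : g.1 0 0 + g.1 1 1 ≠ 0 := by
    intro h0
    apply h2
    have h3 : (g.1 0 0 + g.1 1 1) * g.1 0 0 = 2 := by linear_combination h00 + hd
    rw [h0, zero_mul] at h3
    exact h3.symm
  have hb : g.1 0 1 = 0 := by
    have : g.1 0 1 * (g.1 0 0 + g.1 1 1) = 0 := by linear_combination h01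
    exact (mul_eq_zero.1 this).resolve_right ht
  have hc : g.1 1 0 = 0 := by
    have : g.1 1 0 * (g.1 0 0 + g.1 1 1) = 0 := by linear_combination h10
    exact (mul_eq_zero.1 this).resolve_right ht
  have had : g.1 0 0 = g.1 1 1 := by
    have : (g.1 0 0 - g.1 1 1) * (g.1 0 0 + g.1 1 1) = 0 := by
      rw [hb] at h00 h11
      linear_combination h00 - h11
    exact sub_eq_zero.1 ((mul_eq_zero.1 this).resolve_right ht)
  have ha : g.1 0 0 = 1 ∨ g.1 0 0 = -1 := by
    have : (g.1 0 0 - 1) * (g.1 0 0 + 1) = 0 := by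
      rw [hb] at h00
      linear_combination h00
    rcases mul_eq_zero.1 this with h | h
    · left; exact sub_eq_zero.1 h
    · right; exact eq_neg_of_add_eq_zero_left h
  rcases ha with ha | ha
  · exfalso
    apply hg1
    apply Subtype.ext
    ext i j
    fin_cases i <;> fin_cases j
    · exact ha
    · exact hb
    · exact hc
    · show g.1 1 1 = 1
      rw [← had, ha]
  · apply Subtype.ext
    have h3 : ((-1 : SL(2, F))).1 = -1 := rfl
    rw [h3]
    ext i j
    fin_cases i <;> fin_cases j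
    · show g.1 0 0 = (-1 : Matrix (Fin 2) (Fin 2) F) 0 0
      rw [ha, neg_apply, one_apply_eq]
    · show g.1 0 1 = (-1 : Matrix (Fin 2) (Fin 2) F) 0 1
      rw [hb, neg_apply, one_apply_ne (by decide), neg_zero]
    · show g.1 1 0 = (-1 : Matrix (Fin 2) (Fin 2) F) 1 0
      rw [hc, neg_apply, one_apply_ne (by decide), neg_zero]
    · show g.1 1 1 = (-1 : Matrix (Fin 2) (Fin 2) F) 1 1
      rw [← had, ha, neg_apply, one_apply_eq]

theorem lr_one [Finite F] (h2 : (2 : F) ≠ 0) {a : F} (ha : a ≠ 0) (H : Subgroup SL(2, F))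
    (hl : ∀ g : SL(2, F), g.1 = !![1, 0; 1, 1] → g ∈ H) (hu : ∀ g : SL(2, F), g.1 = !![1, a; 0, 1] → g ∈ H) :
    (-1 : SL(2, F)) ∈ H := by
  classical
  set K : Subfield F := Subfield.closure ({a} : Set F) with hK
  let a' : K := ⟨a, Subfield.subset_closure rfl⟩
  let _ : Fintype K := Fintype.ofFinite K
  have hgen : Subfield.closure ({a'} : Set K) = ⊤ := closure_coe_top a
  have h2K : (2 : K) ≠ 0 := by
    intro h0
    apply h2
    have := congrArg K.subtype h0
    rwa [map_ofNat, map_zero] at this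
  have ha'0 : a' ≠ 0 := fun h0 => ha (congrArg (fun x : K => (x : F)) h0)
  let Psi : SL(2, K) →* SL(2, F) := Matrix.SpecialLinearGroup.map K.subtype
  have hPsi : Psi (-1) = -1 := by
    apply Subtype.ext
    ext i j
    fin_cases i <;> fin_cases j <;> simp [Psi]
  have hle : Subgroup.closure {g : SL(2, K) | (g : Matrix (Fin 2) (Fin 2) K) = !![1, 0; 1, 1] ∨
      (g : Matrix (Fin 2) (Fin 2) K) = !![1, a'; 0, 1]} ≤ H.comap Psi := by
    rw [Subgroup.closure_le]
    rintro g (hg | hg)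
    · apply hl
      rw [Matrix.SpecialLinearGroup.map_apply_coe, RingHom.mapMatrix_apply, hg]
      ext i j
      fin_cases i <;> fin_cases j <;> simp
    · apply hu
      rw [Matrix.SpecialLinearGroup.map_apply_coe, RingHom.mapMatrix_apply, hg]
      ext i j
      fin_cases i <;> fin_cases j <;> simp [a']
  have key : (-1 : SL(2, K)) ∈ Subgroup.closure {g : SL(2, K) | (g : Matrix (Fin 2) (Fin 2) K) = !![1, 0; 1, 1] ∨
      (g : Matrix (Fin 2) (Fin 2) K) = !![1, a'; 0, 1]} := by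
    rcases Cfsg.Agent.S0801.result (F := K) h2K a' ha'0 hgen with ⟨htop, -⟩ | ⟨-, -, h120⟩
    · rw [htop]
      exact Subgroup.mem_top _
    · have : Fact (Nat.Prime 2) := ⟨Nat.prime_two⟩
      obtain ⟨g, hg⟩ := exists_prime_orderOf_dvd_card' (G := Subgroup.closure {g : SL(2, K) |
        (g : Matrix (Fin 2) (Fin 2) K) = !![1, 0; 1, 1] ∨ (g : Matrix (Fin 2) (Fin 2) K) = !![1, a'; 0, 1]}) 2
        (by rw [h120]; norm_num)
      have hg2 : g * g = 1 := by
        have h5 := pow_orderOf_eq_one g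
        rw [hg, pow_two] at h5
        exact h5
      have hg1 : g ≠ 1 := by
        rintro rfl
        rw [orderOf_one] at hg
        exact absurd hg (by norm_num)
      have h3 := sl2_invol h2K (g := g.1) (by rw [← Subgroup.coe_mul, hg2]; rfl) (fun h => hg1 (Subtype.ext h))
      rw [← h3]
      exact g.2
  have h4 := hle key
  rw [Subgroup.mem_comap, hPsi] at h4
  exact h4

/-- conjugation by `diag(b, 1)` -/
def dcj {b : F} (hb : b ≠ 0) : SL(2, F) →* SL(2, F) where
  toFun g := ⟨!![g.1 0 0, b⁻¹ * g.1 0 1; b * g.1 1 0, g.1 1 1], by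
    have hd : g.1 0 0 * g.1 1 1 - g.1 0 1 * g.1 1 0 = 1 := by rw [← det_fin_two]; exact g.2
    rw [det_fin_two_of]
    have : b⁻¹ * g.1 0 1 * (b * g.1 1 0) = (b⁻¹ * b) * (g.1 0 1 * g.1 1 0) := by ring
    rw [this, inv_mul_cancel₀ hb, one_mul, hd]⟩
  map_one' := by
    apply Subtype.ext
    ext i j
    fin_cases i <;> fin_cases j <;> simp
  map_mul' g h := by
    apply Subtype.ext
    show !![(g.1 * h.1) 0 0, b⁻¹ * (g.1 * h.1) 0 1; b * (g.1 * h.1) 1 0, (g.1 * h.1) 1 1] =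
      !![g.1 0 0, b⁻¹ * g.1 0 1; b * g.1 1 0, g.1 1 1] * !![h.1 0 0, b⁻¹ * h.1 0 1; b * h.1 1 0, h.1 1 1]
    rw [Matrix.mul_fin_two]
    simp only [Matrix.mul_apply, Fin.sum_univ_two]
    have e1 : b⁻¹ * b = 1 := inv_mul_cancel₀ hb
    ext i j
    fin_cases i <;> fin_cases j
    · show g.1 0 0 * h.1 0 0 + g.1 0 1 * h.1 1 0 = g.1 0 0 * h.1 0 0 + b⁻¹ * g.1 0 1 * (b * h.1 1 0)
      linear_combination (-(g.1 0 1 * h.1 1 0)) * e1
    · show b⁻¹ * (g.1 0 0 * h.1 0 1 + g.1 0 1 * h.1 1 1) = g.1 0 0 * (b⁻¹ * h.1 0 1) + b⁻¹ * g.1 0 1 * h.1 1 1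
      ring
    · show b * (g.1 1 0 * h.1 0 0 + g.1 1 1 * h.1 1 0) = b * g.1 1 0 * h.1 0 0 + g.1 1 1 * (b * h.1 1 0)
      ring
    · show g.1 1 0 * h.1 0 1 + g.1 1 1 * h.1 1 1 = b * g.1 1 0 * (b⁻¹ * h.1 0 1) + g.1 1 1 * h.1 1 1
      linear_combination (-(g.1 1 0 * h.1 0 1)) * e1

/-- **(LR)** two opposite transvections of `SL₂(q)`, `q` odd, generate a group containing `-1` -/
theorem lr_sl2 [Finite F] (h2 : (2 : F) ≠ 0) {a b : F} (ha : a ≠ 0) (hb : b ≠ 0) (H : Subgroup SL(2, F))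
    (hl : ∀ g : SL(2, F), g.1 = !![1, 0; b, 1] → g ∈ H) (hu : ∀ g : SL(2, F), g.1 = !![1, a; 0, 1] → g ∈ H) :
    (-1 : SL(2, F)) ∈ H := by
  have h := lr_one h2 (a := a * b) (mul_ne_zero ha hb) (H.comap (dcj hb)) (by
    intro g hg
    apply hl
    show !![g.1 0 0, b⁻¹ * g.1 0 1; b * g.1 1 0, g.1 1 1] = _
    rw [hg]
    ext i j
    fin_cases i <;> fin_cases j <;> simp) (by
    intro g hg
    apply hu
    show !![g.1 0 0, b⁻¹ * g.1 0 1; b * g.1 1 0, g.1 1 1] = _
    rw [hg]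
    have e1 : b⁻¹ * (a * b) = a := by rw [mul_comm a b, inv_mul_cancel_left₀ hb]
    ext i j
    fin_cases i <;> fin_cases j <;> simp [e1])
  rw [Subgroup.mem_comap] at h
  have h3 : dcj hb (-1 : SL(2, F)) = -1 := by
    apply Subtype.ext
    show !![(-1 : Matrix (Fin 2) (Fin 2) F) 0 0, b⁻¹ * (-1 : Matrix (Fin 2) (Fin 2) F) 0 1;
      b * (-1 : Matrix (Fin 2) (Fin 2) F) 1 0, (-1 : Matrix (Fin 2) (Fin 2) F) 1 1] = (-1 : Matrix (Fin 2) (Fin 2) F)
    ext i j
    fin_cases i <;> fin_cases j <;> simp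
  rwa [h3] at h

end Cfsg.Agent.H17.IFSp
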